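import Groth.Prelude.Def_W4c2gaugesfzipsQuiet
import Groth.Agent.Lib.RelFrob23.Basic
import Mathlib.AlgebraicGeometry.AffineScheme
import Mathlib.RingTheory.RingHom.FaithfullyFlat
import Mathlib.RingTheory.RingHom.StandardSmooth
import Mathlib.RingTheory.Smooth.StandardSmoothOfFree
import Mathlib.RingTheory.RingHom.Flat

/-!
# Presentations of root towers; the Frobenius of a smooth algebra over a perfect field
-/

set_option autoImplicit false
set_option linter.style.haveILetI false

universe u

namespace Groth.Agent.QuietH7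

variable {p : ℕ}

/-- `T` is obtained from `S` by adjoining `p`-th roots `y` of the elements `a`, universally. -/
def IsPres (p : ℕ) {S T : Type u} [CommRing S] [CommRing T] (φ : S →+* T) {d : ℕ} (a : Fin d → S)
    (y : Fin d → T) : Prop :=
  (∀ i, y i ^ p = φ (a i)) ∧
    ∀ (U : Type u) [CommRing U] (ψ : S →+* U) (v : Fin d → U), (∀ i, v i ^ p = ψ (a i)) →
      ∃! σ : T →+* U, σ.comp φ = ψ ∧ ∀ i, σ (y i) = v i

/-- `T' = T ⊗_S S'` as a universal property. -/
def IsPush {S T S' T' : Type u} [CommRing S] [CommRing T] [CommRing S'] [CommRing T'] (φ : S →+* T)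
    (q : S →+* S') (φ' : S' →+* T') (q' : T →+* T') : Prop :=
  q'.comp φ = φ'.comp q ∧ ∀ (U : Type u) [CommRing U] (σ : T →+* U) (ψ : S' →+* U),
    σ.comp φ = ψ.comp q → ∃! σ' : T' →+* U, σ'.comp q' = σ ∧ σ'.comp φ' = ψ

theorem IsPres.push {S T S' T' : Type u} [CommRing S] [CommRing T] [CommRing S'] [CommRing T']
    {φ : S →+* T} {d : ℕ} {a : Fin d → S} {y : Fin d → T} (h : IsPres p φ a y)
    {q : S →+* S'} {φ' : S' →+* T'} {q' : T →+* T'} (hp : IsPush φ q φ' q') :
    IsPres p φ' (fun i => q (a i)) (fun i => q' (y i)) := by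
  refine ⟨fun i => ?_, fun U _ ψ v hv => ?_⟩
  · rw [← map_pow, h.1, ← RingHom.comp_apply, hp.1]; rfl
  · obtain ⟨σ, ⟨hσ, hσy⟩, huniq⟩ := h.2 U (ψ.comp q) v hv
    obtain ⟨σ', ⟨h1, h2⟩, h3⟩ := hp.2 U σ ψ hσ
    refine ⟨σ', ⟨h2, fun i => by rw [← hσy i, ← h1]; rfl⟩, ?_⟩
    rintro τ ⟨hτ, hτy⟩
    refine h3 τ ⟨huniq _ ⟨?_, hτy⟩, hτ⟩
    rw [RingHom.comp_assoc, hp.1, ← RingHom.comp_assoc, hτ]

section Tower

open Polynomial

/-- A presentation by roots is a root tower. -/
theorem isRootTower_of_isPres : ∀ (d : ℕ) (S T : Type u) [CommRing S] [CommRing T] [Algebra S T]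
    (a : Fin d → S) (y : Fin d → T), IsPres p (algebraMap S T) a y → Quiet.IsRootTower p d S T := by
  intro d
  induction d with
  | zero =>
    intro S T _ _ _ a y h
    obtain ⟨σ, ⟨hσ, -⟩, -⟩ := h.2 S (RingHom.id S) (fun i => i.elim0) (fun i => i.elim0)
    obtain ⟨τ, -, huniq⟩ := h.2 T (algebraMap S T) (fun i => i.elim0) (fun i => i.elim0)
    have h1 : (algebraMap S T).comp σ = RingHom.id T := by
      rw [huniq ((algebraMap S T).comp σ) ⟨by rw [RingHom.comp_assoc, hσ, RingHom.comp_id], fun i => i.elim0⟩,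
        huniq (RingHom.id T) ⟨RingHom.id_comp _, fun i => i.elim0⟩]
    let e : T →ₐ[S] S := { σ with commutes' := fun s => congr($hσ s) }
    exact ⟨AlgEquiv.ofBijective e
      ⟨fun x x' hx => by
        have := congrArg (algebraMap S T) hx
        rw [show algebraMap S T (e x) = x from congr($h1 x),
          show algebraMap S T (e x') = x' from congr($h1 x')] at this
        exact this,
      fun s => ⟨algebraMap S T s, congr($hσ s)⟩⟩⟩
  | succ d ih =>
    intro S T _ _ _ a y h
    let f : S[X] := X ^ p - C (a 0)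
    have hf : f.eval₂ (algebraMap S T) (y 0) = 0 := by simp [f, h.1 0]
    let π : Quiet.RootRing p S (a 0) →+* T := AdjoinRoot.lift (algebraMap S T) (y 0) hf
    letI algR : Algebra (Quiet.RootRing p S (a 0)) T := π.toAlgebra
    refine ⟨a 0, algR, IsScalarTower.of_algebraMap_eq fun s => (AdjoinRoot.lift_of hf).symm, ?_⟩
    refine ih _ _ (fun i => AdjoinRoot.of f (a i.succ)) (fun i => y i.succ) ⟨fun i => ?_, ?_⟩
    · show _ = π _
      rw [h.1 i.succ]
      exact (AdjoinRoot.lift_of hf).symm
    · intro U _ ψ v hv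
      have hroot : ψ (AdjoinRoot.root f) ^ p = ψ (AdjoinRoot.of f (a 0)) := by
        have h0 := AdjoinRoot.eval₂_root f
        simp only [f, eval₂_sub, eval₂_X_pow, eval₂_C, sub_eq_zero] at h0
        rw [← map_pow]
        exact congrArg ψ h0
      obtain ⟨σ, ⟨hσ, hσy⟩, huniq⟩ := h.2 U (ψ.comp (AdjoinRoot.of f))
        (Fin.cons (ψ (AdjoinRoot.root f)) v) (by
          intro i
          induction i using Fin.cases with
          | zero => simpa using hroot
          | succ i => simpa using hv i)
      refine ⟨σ, ⟨?_, fun i => by simpa using hσy i.succ⟩, ?_⟩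
      · refine RingHom.ext fun z => ?_
        induction z using AdjoinRoot.induction_on with
        | ih q =>
          induction q using Polynomial.induction_on' with
          | add q r hq hr => simp only [map_add, hq, hr]
          | monomial n s =>
            rw [← C_mul_X_pow_eq_monomial, map_mul, map_pow, AdjoinRoot.mk_C, AdjoinRoot.mk_X,
              map_mul, map_pow, map_mul, map_pow]
            have e1 : σ.comp (algebraMap (Quiet.RootRing p S (a 0)) T) (AdjoinRoot.of f s) =
                ψ (AdjoinRoot.of f s) := by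
              show σ (π (AdjoinRoot.of f s)) = _
              rw [show π (AdjoinRoot.of f s) = algebraMap S T s from AdjoinRoot.lift_of hf]
              exact congr($hσ s)
            have e2 : σ.comp (algebraMap (Quiet.RootRing p S (a 0)) T) (AdjoinRoot.root f) =
                ψ (AdjoinRoot.root f) := by
              show σ (π (AdjoinRoot.root f)) = _
              rw [show π (AdjoinRoot.root f) = y 0 from AdjoinRoot.lift_root hf]
              simpa using hσy 0
            rw [e1, e2]
      · rintro τ ⟨hτ, hτy⟩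
        refine huniq τ ⟨?_, fun i => ?_⟩
        · refine RingHom.ext fun s => ?_
          have := congr($hτ (AdjoinRoot.of f s))
          refine Eq.trans ?_ this
          show τ (algebraMap S T s) = τ (π (AdjoinRoot.of f s))
          rw [show π (AdjoinRoot.of f s) = algebraMap S T s from AdjoinRoot.lift_of hf]
        · induction i using Fin.cases with
          | zero =>
            have := congr($hτ (AdjoinRoot.root f))
            simp only [Fin.cons_zero]
            refine Eq.trans ?_ this
            show τ (y 0) = τ (π (AdjoinRoot.root f))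
            rw [show π (AdjoinRoot.root f) = y 0 from AdjoinRoot.lift_root hf]
          | succ i => simpa using hτy i

/-- Root towers are free. -/
theorem free_of_isRootTower (hp : 0 < p) : ∀ (d : ℕ) (S T : Type u) [CommRing S] [CommRing T]
    [Algebra S T], Quiet.IsRootTower p d S T → Module.Free S T := by
  intro d
  induction d with
  | zero =>
    intro S T _ _ _ h
    obtain ⟨e⟩ := h
    exact Module.Free.of_equiv e.symm.toLinearEquiv
  | succ d ih =>
    intro S T _ _ _ h
    obtain ⟨a, algR, hst, hT⟩ := h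
    haveI := hst
    haveI : Module.Free (Quiet.RootRing p S a) T := ih _ _ hT
    haveI : Module.Free S (Quiet.RootRing p S a) :=
      Module.Free.of_basis (AdjoinRoot.powerBasis' (monic_X_pow_sub_C a hp.ne')).basis
    exact Module.Free.trans (R := S) (S := Quiet.RootRing p S a) (M := T)

theorem flat_of_isPres (hp : 0 < p) {S T : Type u} [CommRing S] [CommRing T] (φ : S →+* T) {d : ℕ}
    {a : Fin d → S} {y : Fin d → T} (h : IsPres p φ a y) : φ.Flat := by
  letI := φ.toAlgebra
  haveI := free_of_isRootTower hp d S T (isRootTower_of_isPres d S T a y h)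
  exact (inferInstance : Module.Flat S T)

end Tower

section LocPres

/-- Near every prime of the source the map is given by a presentation by roots. -/
def LocPres (p : ℕ) {S T : Type u} [CommRing S] [CommRing T] (φ : S →+* T) : Prop :=
  ∀ P : PrimeSpectrum S, ∃ g : S, g ∉ P.asIdeal ∧
    ∀ (S' T' : Type u) [CommRing S'] [CommRing T'] [Algebra S S'] [Algebra T T']
      [IsLocalization.Away g S'] [IsLocalization.Away (φ g) T'] (φ' : S' →+* T'),
      φ'.comp (algebraMap S S') = (algebraMap T T').comp φ →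
      ∃ (d : ℕ) (a : Fin d → S') (y : Fin d → T'), IsPres p φ' a y

theorem LocPres.flat (hp : 0 < p) {S T : Type u} [CommRing S] [CommRing T] {φ : S →+* T}
    (h : LocPres p φ) : φ.Flat := by
  choose g hg hpres using h
  refine RingHom.Flat.propertyIsLocal.ofLocalizationSpan φ (Set.range g) ?_ ?_
  · by_contra hne
    obtain ⟨m, hm, hle⟩ := Ideal.exists_le_maximal _ hne
    exact hg ⟨m, hm.isPrime⟩ (hle (Ideal.subset_span ⟨_, rfl⟩))
  · rintro ⟨_, P, rfl⟩
    obtain ⟨d, a, y, hay⟩ := hpres P (Localization.Away (g P)) (Localization.Away (φ (g P)))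
      (Localization.awayMap φ (g P)) (IsLocalization.map_comp _)
    exact flat_of_isPres hp _ hay

set_option backward.isDefEq.respectTransparency.types false in
open CategoryTheory AlgebraicGeometry in
theorem LocPres.isPthRoot' {S T : CommRingCat.{u}} {φ : S ⟶ T}
    (h : LocPres p φ.hom) : Quiet.IsPthRoot p (Spec.map φ) := by
  intro x
  obtain ⟨g, hg, hpres⟩ := h x
  let f := Spec.map φ
  let U : (Spec S).Opens := PrimeSpectrum.basicOpen g
  have hU : IsAffineOpen U := IsAffineOpen.Spec_basicOpen (R := CommRingCat.of S) g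
  refine ⟨⟨U, hU⟩, hg, hU.preimage f, ?_⟩
  let W : (Spec T).Opens := PrimeSpectrum.basicOpen (φ.hom g)
  haveI : IsLocalization.Away (φ.hom g) Γ(Spec T, W) :=
    inferInstanceAs (IsLocalization.Away (φ.hom g)
      ((Spec.structureSheaf T).obj.obj (Opposite.op (PrimeSpectrum.basicOpen (φ.hom g)))))
  haveI : IsLocalization.Away g Γ(Spec S, U) :=
    inferInstanceAs (IsLocalization.Away g
      ((Spec.structureSheaf S).obj.obj (Opposite.op (PrimeSpectrum.basicOpen g))))
  have key : ∀ (V : (Spec T).Opens) (e : V ≤ f ⁻¹ᵁ U), V = W →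
      ∃ (d : ℕ) (a : Fin d → Γ(Spec S, U)) (y : Fin d → Γ(Spec T, V)),
        IsPres p (f.appLE U V e).hom a y := by
    rintro V e rfl
    refine hpres _ _ (f.appLE U _ e).hom ?_
    rw [AlgebraicGeometry.IsAffineOpen.algebraMap_Spec_obj, AlgebraicGeometry.IsAffineOpen.algebraMap_Spec_obj, ← CommRingCat.hom_comp]
    have h1 : ((Scheme.ΓSpecIso S).inv ≫
        (Spec S).presheaf.map (homOfLE le_top).op) ≫ f.appLE U _ e =
        φ ≫ (Scheme.ΓSpecIso T).inv ≫
          (Spec T).presheaf.map (homOfLE le_top).op := by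
      rw [Category.assoc, Scheme.Hom.map_appLE, Scheme.ΓSpecIso_inv_naturality_assoc]
      rfl
    rw [h1]
    rfl
  obtain ⟨d, a, y, hay⟩ := key (f ⁻¹ᵁ U) le_rfl (PrimeSpectrum.comap_basicOpen φ.hom g)
  rw [← Scheme.Hom.app_eq_appLE] at hay
  exact ⟨d, letI := (f.app U).hom.toAlgebra; isRootTower_of_isPres d _ _ a y hay⟩

open CategoryTheory AlgebraicGeometry in
theorem LocPres.isPthRoot {S T : Type u} [CommRing S] [CommRing T] {φ : S →+* T}
    (h : LocPres p φ) : Quiet.IsPthRoot p (Spec.map (CommRingCat.ofHom φ)) :=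
  LocPres.isPthRoot' (φ := CommRingCat.ofHom φ) h

end LocPres

section Frobenius

variable (p) [Fact p.Prime] (k : Type u) [Field k] [CharP k p] [PerfectRing k p]

open MvPolynomial in
/-- The coordinates of an étale map from affine space form a `p`-basis. -/
theorem isPres_frobenius_of_etale {d : ℕ} (B : Type u) [CommRing B] [CharP B p]
    (g : MvPolynomial (Fin d) k →+* B) (hg : g.Etale) :
    IsPres p (frobenius B p) (fun i => g (X i)) (fun i => g (X i)) := by
  refine ⟨fun i => (frobenius_def p _).symm, fun U _ ψ v hv => ?_⟩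
  let P := MvPolynomial (Fin d) k
  letI : Algebra P B := g.toAlgebra
  haveI : Algebra.Etale P B := hg
  have hb := Groth.Agent.RelFrob23.bijective_of_etale p P B
  let h : P →+* U :=
    eval₂Hom ((ψ.comp (g.comp C)).comp (frobeniusEquiv k p).symm.toRingHom) v
  have hh : ∀ f : P, h (f ^ p) = ψ (g f) := fun f => by
    refine congr($(show h.comp (frobenius P p) = ψ.comp g from ?_) f)
    refine MvPolynomial.ringHom_ext (fun c => ?_) (fun i => ?_)
    · show h (C c ^ p) = ψ (g (C c))
      rw [← map_pow, show h (C (c ^ p)) = ψ (g (C ((frobeniusEquiv k p).symm (c ^ p)))) from eval₂Hom_C _ _ _,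
        ← frobenius_def, frobeniusEquiv_symm_apply_frobenius]
    · show h (X i ^ p) = ψ (g (X i))
      rw [map_pow, show h (X i) = v i from eval₂Hom_X' _ _ _]
      exact hv i
  letI : Algebra P U := (ψ.comp g).toAlgebra
  let f1 : B →ₐ[P] U := { ψ with commutes' := fun _ => rfl }
  let f2 : FrobAlg.Twist p P →ₐ[P] U :=
    { h.comp (FrobAlg.toTwist p P).symm.toRingHom with commutes' := fun f => hh f }
  let L := (Algebra.TensorProduct.lift f1 f2 fun _ _ => Commute.all _ _).toRingHom
  let e := RingEquiv.ofBijective (FrobAlg.relFrob p P B) hb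
  have hL : ∀ z, (L.comp e.symm.toRingHom) (FrobAlg.relFrob p P B z) = L z := fun z =>
    congrArg L (e.symm_apply_apply z)
  refine ⟨L.comp e.symm.toRingHom, ⟨RingHom.ext fun b => ?_, fun i => ?_⟩, ?_⟩
  · show (L.comp e.symm.toRingHom) (b ^ p) = ψ b
    rw [← Groth.Agent.RelFrob23.relFrob_tmul_one p P B b, hL]
    show f1 b * f2 1 = _
    rw [map_one, mul_one]
    rfl
  · show (L.comp e.symm.toRingHom) (algebraMap P B (X i)) = v i
    rw [← (FrobAlg.toTwist p P).symm_apply_apply (X i),
      ← Groth.Agent.RelFrob23.relFrob_one_tmul p P B, hL]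
    show f1 1 * f2 (FrobAlg.toTwist p P (X i)) = _
    rw [map_one, one_mul]
    exact eval₂Hom_X' _ _ _
  · rintro τ ⟨hτ, hτy⟩
    refine RingHom.ext fun b => ?_
    obtain ⟨z, rfl⟩ := hb.2 b
    rw [hL]
    induction z using TensorProduct.induction_on with
    | zero => simp
    | add z z' hz hz' => simp only [map_add, hz, hz']
    | tmul b f =>
      rw [Groth.Agent.RelFrob23.relFrob_tmul, map_mul]
      show _ = f1 b * f2 f
      congr 1
      · exact congr($hτ b)
      · refine congr($(show (τ.comp g) = h from ?_) ((FrobAlg.toTwist p P).symm f))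
        refine MvPolynomial.ringHom_ext (fun c => ?_) (fun i => ?_)
        · show τ (g (C c)) = h (C c)
          rw [show h (C c) = ψ (g (C ((frobeniusEquiv k p).symm c))) from eval₂Hom_C _ _ _]
          conv_lhs => rw [← frobenius_apply_frobeniusEquiv_symm k p c, frobenius_def, map_pow, map_pow]
          exact congr($hτ _)
        · rw [show h (X i) = v i from eval₂Hom_X' _ _ _]
          exact hτy i

/-- The Frobenius of a quotient `R' = R/J` of a smooth algebra over a perfect field, as a map
`R/J → R/J^{[p]}`, is given near every point by roots. -/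
theorem locPres_of_smooth (R : Type u) [CommRing R] [CharP R p] [Algebra k R] [Algebra.Smooth k R]
    {R' R'' : Type u} [CommRing R'] [CommRing R''] (q : R →+* R') (hq : Function.Surjective q)
    (q'' : R →+* R'') (hq'' : Function.Surjective q'') (φ : R' →+* R'')
    (hφ : φ.comp q = q''.comp (frobenius R p))
    (hker : RingHom.ker q'' ≤ (RingHom.ker q).map (frobenius R p)) : LocPres p φ := by
  intro P
  obtain ⟨s, hs, hstd⟩ := Algebra.Smooth.exists_span_eq_top_isStandardSmooth k R
  obtain ⟨g, hgs, hgP⟩ : ∃ g ∈ s, q g ∉ P.asIdeal := by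
    by_contra hcon
    push Not at hcon
    have : Ideal.span s ≤ P.asIdeal.comap q := Ideal.span_le.2 hcon
    rw [hs] at this
    exact (Ideal.IsPrime.comap q).ne_top (top_le_iff.1 this)
  refine ⟨q g, hgP, ?_⟩
  intro S' T' _ _ _ _ _ _ φ' hφ'
  let B := Localization.Away g
  haveI : Nontrivial B := by
    by_contra hB
    rw [not_nontrivial_iff_subsingleton,
      IsLocalization.subsingleton_iff (M := Submonoid.powers g) (S := B)] at hB
    obtain ⟨n, hn⟩ := hB
    exact hgP (P.isPrime.mem_of_pow_mem n (by rw [← map_pow]; simp [hn]))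
  haveI : CharP B p := charP_of_injective_algebraMap (algebraMap k B).injective p
  obtain ⟨d, e, -, he⟩ := RingHom.IsStandardSmooth.exists_etale_mvPolynomial (f := algebraMap k B)
    ((RingHom.isStandardSmooth_algebraMap).2 (hstd g hgs))
  have hpres := isPres_frobenius_of_etale p k B e he
  have hu1 : IsUnit ((algebraMap R' S').comp q g) := IsLocalization.Away.algebraMap_isUnit (q g)
  let qt : B →+* S' := IsLocalization.Away.lift g hu1
  have hφg : φ (q g) = q'' g ^ p := by
    rw [← RingHom.comp_apply, hφ, ← map_pow]; rfl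
  have hu2 : IsUnit ((algebraMap R'' T').comp q'' g) := by
    have h1 : IsUnit (algebraMap R'' T' (φ (q g))) := IsLocalization.Away.algebraMap_isUnit (φ (q g))
    rw [hφg, map_pow] at h1
    exact (isUnit_pow_iff (Fact.out : p.Prime).ne_zero).1 h1
  let qt' : B →+* T' := IsLocalization.Away.lift g hu2
  have hqt : ∀ r, qt (algebraMap R B r) = algebraMap R' S' (q r) := fun r =>
    IsLocalization.Away.lift_eq g hu1 r
  have hqt' : ∀ r, qt' (algebraMap R B r) = algebraMap R'' T' (q'' r) := fun r =>
    IsLocalization.Away.lift_eq g hu2 r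
  refine ⟨d, _, _, hpres.push (q := qt) (φ' := φ') (q' := qt') ⟨?_, ?_⟩⟩
  · refine IsLocalization.ringHom_ext (Submonoid.powers g) (RingHom.ext fun r => ?_)
    show qt' (algebraMap R B r ^ p) = φ' (qt (algebraMap R B r))
    rw [← map_pow, hqt', hqt, ← RingHom.comp_apply φ', hφ', RingHom.comp_apply,
      ← RingHom.comp_apply φ, hφ]
    rfl
  · intro U _ σ ψ hσψ
    let σ0 : R →+* U := σ.comp (algebraMap R B)
    have hσ0 : ∀ r, σ0 (r ^ p) = ψ (algebraMap R' S' (q r)) := fun r => by
      show σ (algebraMap R B (r ^ p)) = _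
      rw [map_pow, ← hqt]
      exact congr($hσψ (algebraMap R B r))
    have hk0 : RingHom.ker q'' ≤ RingHom.ker σ0 := by
      refine hker.trans (Ideal.map_le_iff_le_comap.2 fun j hj => ?_)
      show σ0 (j ^ p) = 0
      rw [hσ0, show q j = 0 from hj, map_zero, map_zero]
    let σ1 : R'' →+* U :=
      RingHom.liftOfRightInverse q'' _ (Function.rightInverse_surjInv hq'') ⟨σ0, hk0⟩
    have hσ1 : ∀ r, σ1 (q'' r) = σ0 r := fun r =>
      RingHom.liftOfRightInverse_comp_apply _ _ _ ⟨σ0, hk0⟩ r
    have hu3 : IsUnit (σ1 (φ (q g))) := by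
      rw [hφg, map_pow, hσ1]
      exact ((IsLocalization.Away.algebraMap_isUnit (S := B) g).map σ).pow p
    let σ' : T' →+* U := IsLocalization.Away.lift (φ (q g)) hu3
    have hσ' : ∀ z, σ' (algebraMap R'' T' z) = σ1 z := fun z =>
      IsLocalization.Away.lift_eq _ hu3 z
    refine ⟨σ', ⟨?_, ?_⟩, ?_⟩
    · refine IsLocalization.ringHom_ext (Submonoid.powers g) (RingHom.ext fun r => ?_)
      show σ' (qt' (algebraMap R B r)) = σ0 r
      rw [hqt', hσ', hσ1]
    · refine IsLocalization.ringHom_ext (Submonoid.powers (q g)) (RingHom.ext fun z => ?_)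
      obtain ⟨r, rfl⟩ := hq z
      show σ' ((φ'.comp (algebraMap R' S')) (q r)) = ψ (algebraMap R' S' (q r))
      rw [hφ', RingHom.comp_apply, hσ', ← hσ0, ← RingHom.comp_apply φ, hφ, RingHom.comp_apply,
        hσ1, frobenius_def]
    · rintro τ ⟨hτ, -⟩
      refine IsLocalization.ringHom_ext (Submonoid.powers (φ (q g))) (RingHom.ext fun z => ?_)
      obtain ⟨r, rfl⟩ := hq'' z
      show τ (algebraMap R'' T' (q'' r)) = σ' (algebraMap R'' T' (q'' r))
      rw [hσ', hσ1, ← hqt']
      exact congr($hτ (algebraMap R B r))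

theorem faithfullyFlat_of_smooth (R : Type u) [CommRing R] [CharP R p] [Algebra k R] [Algebra.Smooth k R]
    {R' R'' : Type u} [CommRing R'] [CommRing R''] (q : R →+* R') (hq : Function.Surjective q)
    (q'' : R →+* R'') (hq'' : Function.Surjective q'') (φ : R' →+* R'')
    (hφ : φ.comp q = q''.comp (frobenius R p))
    (hker : RingHom.ker q'' ≤ (RingHom.ker q).map (frobenius R p)) : φ.FaithfullyFlat := by
  refine (RingHom.FaithfullyFlat.iff_flat_and_comap_surjective).2
    ⟨(locPres_of_smooth p k R q hq q'' hq'' φ hφ hker).flat (Fact.out : p.Prime).pos, fun P => ?_⟩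
  let P₀ := P.asIdeal.comap q
  haveI : P₀.IsPrime := Ideal.IsPrime.comap q
  have hk : RingHom.ker q'' ≤ P₀ := hker.trans (Ideal.map_le_iff_le_comap.2 fun j hj => by
    show j ^ p ∈ P₀
    refine Ideal.pow_mem_of_mem _ ?_ p (Fact.out : p.Prime).pos
    show q j ∈ P.asIdeal
    rw [show q j = 0 from hj]
    exact zero_mem _)
  refine ⟨⟨P₀.map q'', Ideal.map_isPrime_of_surjective hq'' hk⟩, PrimeSpectrum.ext (Ideal.ext fun z => ?_)⟩
  obtain ⟨r, rfl⟩ := hq z
  show φ (q r) ∈ P₀.map q'' ↔ q r ∈ P.asIdeal
  rw [← RingHom.comp_apply, hφ, RingHom.comp_apply, frobenius_def, Ideal.mem_map_iff_of_surjective _ hq'']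
  constructor
  · rintro ⟨x, hx, hxe⟩
    have : x - r ^ p ∈ P₀ := hk (by rw [RingHom.mem_ker, map_sub, hxe, sub_self])
    have := sub_mem hx this
    rw [sub_sub_cancel] at this
    exact (Ideal.IsPrime.mem_of_pow_mem ‹_› p this : r ∈ P₀)
  · exact fun hr => ⟨r ^ p, Ideal.pow_mem_of_mem _ (show r ∈ P₀ from hr) p (Fact.out : p.Prime).pos, rfl⟩

end Frobenius

end Groth.Agent.QuietH7
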