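import Groth.Agent.Lib.QuietH7.Pres
import Mathlib.RingTheory.Regular.Flat
import Mathlib.RingTheory.Smooth.StandardSmooth

/-!
# The Frobenius of the quotient of a smooth algebra by a regular sequence
-/

set_option autoImplicit false
set_option linter.style.haveILetI false

universe u

open MvPolynomial RingTheory.Sequence

namespace Groth.Agent.QuietH7

theorem isRegular_map_of_faithfullyFlat {A B : Type u} [CommRing A] [CommRing B] (f : A →+* B)
    (hf : f.FaithfullyFlat) {rs : List A} (h : IsRegular A rs) : IsRegular B (rs.map f) := by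
  letI := f.toAlgebra
  haveI : Module.FaithfullyFlat A B := hf
  exact h.of_faithfullyFlat

theorem isRegular_append_of_quotient {R : Type u} [CommRing R] {rs₁ rs₂ : List R} (I : Ideal R)
    (hI : I = Ideal.ofList rs₁) (h₁ : IsWeaklyRegular R rs₁)
    (h₂ : IsRegular (R ⧸ I) (rs₂.map (Ideal.Quotient.mk I))) : IsRegular R (rs₁ ++ rs₂) := by
  refine ⟨(isWeaklyRegular_append_iff R rs₁ rs₂).2 ⟨h₁, ?_⟩, ?_⟩
  · have h3 : IsWeaklyRegular (R ⧸ I) rs₂ :=
      (isWeaklyRegular_map_algebraMap_iff (R ⧸ I) (R ⧸ I) rs₂).1 h₂.toIsWeaklyRegular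
    refine (LinearEquiv.isWeaklyRegular_congr (Submodule.quotEquivOfEq I _ ?_) rs₂).1 h3
    rw [hI, smul_eq_mul, Ideal.mul_top]
  · intro htop
    refine h₂.top_ne_smul ?_
    have h4 := congrArg (Ideal.map (Ideal.Quotient.mk I)) htop
    rw [smul_eq_mul, Ideal.mul_top, Ideal.ofList_append, Ideal.map_sup, ← hI, Ideal.map_quotient_self,
      bot_sup_eq, Ideal.map_top, Ideal.map_ofList] at h4
    rw [smul_eq_mul, Ideal.mul_top]
    exact h4

variable (p : ℕ) [Fact p.Prime] (k : Type u) [Field k] [CharP k p] [PerfectRing k p]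

theorem frobenius_faithfullyFlat (R : Type u) [CommRing R] [CharP R p] [Algebra k R]
    [Algebra.Smooth k R] : (frobenius R p).FaithfullyFlat :=
  faithfullyFlat_of_smooth p k R (RingHom.id R) Function.surjective_id (RingHom.id R)
    Function.surjective_id (frobenius R p) rfl
    (fun x hx => by rw [show x = 0 from hx]; exact zero_mem _)

open CategoryTheory AlgebraicGeometry in
theorem quotient_regularSeq (A : Type u) [CommRing A] [Algebra k A]
    [CharP A p] [Algebra.Smooth k A] (n : ℕ) (t : Fin n → A) (ht : IsRegular A (List.ofFn t))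
    (r m : ℕ) (v : Fin m → MvPolynomial (Fin r) A)
    (hv : IsRegular
      (MvPolynomial (Fin r) A ⧸ Ideal.span (Set.range fun i => C (t i) ^ p))
      (List.ofFn fun j => Ideal.Quotient.mk (Ideal.span (Set.range fun i => C (t i) ^ p)) (v j))) :
    IsRegular (MvPolynomial (Fin r) A)
        (List.ofFn (fun i => C (t i) ^ (p ^ 2)) ++ List.ofFn (fun j => v j ^ p)) ∧
      (Ideal.quotientMap ((Ideal.span (Set.range (fun i => C (t i) ^ p) ∪ Set.range v)).map (frobenius (MvPolynomial (Fin r) A) p)) (frobenius (MvPolynomial (Fin r) A) p) Ideal.le_comap_map).FaithfullyFlat ∧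
      Quiet.IsPthRoot p (Spec.map (CommRingCat.ofHom (Ideal.quotientMap ((Ideal.span (Set.range (fun i => C (t i) ^ p) ∪ Set.range v)).map (frobenius (MvPolynomial (Fin r) A) p)) (frobenius (MvPolynomial (Fin r) A) p) Ideal.le_comap_map))) := by
  haveI : Algebra.Smooth A (MvPolynomial (Fin r) A) := ⟨inferInstance, inferInstance⟩
  haveI : Algebra.Smooth k (MvPolynomial (Fin r) A) := Algebra.Smooth.comp k A _
  haveI : Nontrivial A := CharP.nontrivial_of_char_ne_one (R := A) (Fact.out : p.Prime).ne_one
  haveI : Module.Free A (MvPolynomial (Fin r) A) := Module.Free.of_basis (basisMonomials (Fin r) A)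
  set J := Ideal.span (Set.range (fun i => C (σ := Fin r) (t i) ^ p) ∪ Set.range v)
  have hk : RingHom.ker (Ideal.Quotient.mk (J.map (frobenius (MvPolynomial (Fin r) A) p))) ≤
      (RingHom.ker (Ideal.Quotient.mk J)).map (frobenius (MvPolynomial (Fin r) A) p) := by
    rw [Ideal.mk_ker, Ideal.mk_ker]
  refine ⟨?_, faithfullyFlat_of_smooth p k (MvPolynomial (Fin r) A) _ Ideal.Quotient.mk_surjective _
      Ideal.Quotient.mk_surjective _ (RingHom.ext fun x => rfl) hk,
    (locPres_of_smooth p k (MvPolynomial (Fin r) A) _ Ideal.Quotient.mk_surjective _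
      Ideal.Quotient.mk_surjective _ (RingHom.ext fun x => rfl) hk).isPthRoot⟩
  have hC : (C : A →+* MvPolynomial (Fin r) A).FaithfullyFlat :=
    RingHom.faithfullyFlat_algebraMap_iff.2 (inferInstance : Module.FaithfullyFlat A (MvPolynomial (Fin r) A))
  have h1 := isRegular_map_of_faithfullyFlat _ hC
    (isRegular_map_of_faithfullyFlat _ (frobenius_faithfullyFlat p k A) ht)
  have h2 : IsRegular (MvPolynomial (Fin r) A)
      (List.ofFn (fun i => C (t i) ^ p) ++ List.ofFn v) := by
    refine isRegular_append_of_quotient (Ideal.span (Set.range fun i => C (t i) ^ p)) ?_ ?_ ?_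
    · exact congrArg Ideal.span (Set.ext fun x => by simp [List.mem_ofFn])
    · have : ((List.ofFn t).map (frobenius A p)).map (C : A →+* MvPolynomial (Fin r) A) =
          List.ofFn fun i => C (t i) ^ p := by
        simp [List.map_ofFn, Function.comp_def, frobenius_def]
      rw [← this]
      exact h1.toIsWeaklyRegular
    · rw [List.map_ofFn]
      exact hv
  have h3 := isRegular_map_of_faithfullyFlat _ (frobenius_faithfullyFlat p k (MvPolynomial (Fin r) A)) h2
  have e : (List.ofFn (fun i => C (t i) ^ p) ++ List.ofFn v).map (frobenius (MvPolynomial (Fin r) A) p) =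
      List.ofFn (fun i => C (t i) ^ (p ^ 2)) ++ List.ofFn (fun j => v j ^ p) := by
    simp [List.map_ofFn, Function.comp_def, frobenius_def, ← pow_mul, sq]
  rwa [e] at h3

end Groth.Agent.QuietH7
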